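import Mathlib.CategoryTheory.Abelian.Refinements
import Mathlib.CategoryTheory.Subobject.Limits
import Mathlib.Algebra.Homology.ShortComplex.ShortExact

/-!
# Sections of `g` and subobjects completing a nine diagram
-/

universe v u

set_option autoImplicit false
set_option backward.isDefEq.respectTransparency false
set_option backward.isDefEq.respectTransparency.types false

open CategoryTheory CategoryTheory.Limits

namespace Groth.Agent.DSites.Nine

set_option linter.unusedSectionVars false

variable {C : Type u} [Category.{v} C] [Abelian C] (S : ShortComplex C)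

/-- The subobject attached to a map into the homology. -/
noncomputable abbrev sub {T : C} (s : T ⟶ S.homology) : Subobject S.X₂ :=
  (Subobject.map S.iCycles).obj ((Subobject.pullback S.homologyπ).obj (imageSubobject s))

variable {S}

theorem factors_mk {X Y Z : C} (f : Y ⟶ X) [Mono f] (g : Z ⟶ X) :
    (Subobject.mk f).Factors g ↔ ∃ t, t ≫ f = g :=
  Subobject.mk_factors_iff f g

theorem factors_sub {T A : C} (s : T ⟶ S.homology) [Mono s] (x : A ⟶ S.X₂) :
    (sub S s).Factors x ↔ ∃ (z : A ⟶ S.cycles) (t : A ⟶ T), z ≫ S.iCycles = x ∧ z ≫ S.homologyπ = t ≫ s := by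
  let P := (Subobject.pullback S.homologyπ).obj (imageSubobject s)
  have hP : ∀ z : A ⟶ S.cycles, P.Factors z ↔ ∃ t, t ≫ s = z ≫ S.homologyπ := fun z => by
    rw [pullback_factors_iff, imageSubobject_mono, factors_mk]
  have he : sub S s = Subobject.mk (P.arrow ≫ S.iCycles) :=
    (congrArg (Subobject.map S.iCycles).obj (Subobject.mk_arrow P).symm).trans (Subobject.map_mk _ _)
  rw [he, factors_mk]
  constructor
  · rintro ⟨w, hw⟩
    obtain ⟨t, ht⟩ := (hP (w ≫ P.arrow)).1 (Subobject.factors_of_factors_right _ (Subobject.factors_self P))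
    exact ⟨w ≫ P.arrow, t, (Category.assoc _ _ _).trans hw, ht.symm⟩
  · rintro ⟨z, t, hz, ht⟩
    have hf : P.Factors z := (hP z).2 ⟨t, ht.symm⟩
    exact ⟨P.factorThru z hf, by rw [Subobject.factorThru_arrow_assoc, hz]⟩

theorem exists_rep_sub {T : C} (s : T ⟶ S.homology) [Mono s] :
    ∃ (z : (sub S s : C) ⟶ S.cycles) (t : (sub S s : C) ⟶ T),
      z ≫ S.iCycles = (sub S s).arrow ∧ z ≫ S.homologyπ = t ≫ s :=
  (factors_sub s _).1 (Subobject.factors_self _)

/-- Factoring can be checked after an epimorphism. -/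
theorem factors_of_epi {X Y Z : C} (P : Subobject X) (x : Y ⟶ X) (e : Z ⟶ Y) [Epi e] (h : P.Factors (e ≫ x)) :
    P.Factors x := by
  have hc : x ≫ cokernel.π P.arrow = 0 := by
    rw [← cancel_epi e, comp_zero, ← Category.assoc, ← Subobject.factorThru_arrow P _ h, Category.assoc,
      cokernel.condition, comp_zero]
  exact (Subobject.factors_iff P x).2
    ⟨(Abelian.monoIsKernelOfCokernel (CokernelCofork.ofπ _ (cokernel.condition P.arrow))
        (cokernelIsCokernel P.arrow)).lift (KernelFork.ofι x hc),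
      (Abelian.monoIsKernelOfCokernel (CokernelCofork.ofπ _ (cokernel.condition P.arrow))
        (cokernelIsCokernel P.arrow)).fac (KernelFork.ofι x hc) WalkingParallelPair.zero⟩

/-- Boundaries are refined images. -/
theorem exists_boundary {A : C} (z : A ⟶ S.cycles) (hz : z ≫ S.homologyπ = 0) :
    ∃ (A' : C) (e : A' ⟶ A) (_ : Epi e) (b : A' ⟶ S.X₁), e ≫ z = b ≫ S.toCycles :=
  (ShortComplex.exact_of_g_is_cokernel
      (ShortComplex.mk S.toCycles S.homologyπ S.toCycles_comp_homologyπ)
      S.homologyIsCokernel).exact_up_to_refinements z hz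

/-- Injectivity of the assignment. -/
theorem sub_injective {T : C} {g : S.homology ⟶ T} (s s' : T ⟶ S.homology) (hs : s ≫ g = 𝟙 T) (hs' : s' ≫ g = 𝟙 T)
    (h : sub S s = sub S s') : s = s' := by
  have : Mono s := SplitMono.mono ⟨g, hs⟩
  have : Mono s' := SplitMono.mono ⟨g, hs'⟩
  obtain ⟨A, e, he, z, hz⟩ := surjective_up_to_refinements_of_epi S.homologyπ s
  have hmem : (sub S s).Factors (z ≫ S.iCycles) := (factors_sub s _).2 ⟨z, e, rfl, hz.symm⟩
  rw [h] at hmem
  obtain ⟨z', t', hz', ht'⟩ := (factors_sub s' _).1 hmem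
  obtain rfl : z' = z := (cancel_mono S.iCycles).1 hz'
  have h2 : e ≫ s = t' ≫ s' := hz.trans ht'
  have h3 : e = t' := by simpa [hs, hs'] using congrArg (fun m => m ≫ g) h2
  rw [← cancel_epi e, h2, h3]

end Groth.Agent.DSites.Nine
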